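import Cfsg.Agent.FusionAgemo.Agemo
import Cfsg.Agent.FusionClosed.StronglyClosed
import Cfsg.Agent.FusionEssential.Chain

/-!
# Normality from a central series of weakly closed subgroups

* `isNormal_of_weaklyClosed_series`: a strongly closed `Q` with a central series whose proper
  terms are weakly closed is normal in the system.
* `exists_weaklyClosed_series`: the converse.
-/

set_option autoImplicit false
set_option linter.style.haveILetI false

namespace CfsgLib.FusionSeries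

open Cfsg Cfsg.FusionSystem CfsgLib.Fusion CfsgLib.FusionPStable CfsgLib.FusionAgemo
open CfsgLib.FusionClosed CfsgLib.FusionEssential
open scoped commutatorElement

variable {Ω : Type*} [Group Ω] {S : Subgroup Ω} {F : FusionSystem S} {P Q W : Subgroup Ω} {p : ℕ}

theorem aut_mem_weaklyClosed (hW : F.WeaklyClosed W) (hP : P ≤ S) (hWP : W ≤ P) {α : MulAut P}
    (hα : α ∈ F.autGroup P) {x : P} (hx : (x : Ω) ∈ W) : ((α x : P) : Ω) ∈ W := by
  have hm := hW.2 _ (restrict_mem ((mem_autGroup_iff hP).1 hα) hWP)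
  exact hm ▸ ⟨⟨x, hx⟩, rfl⟩

theorem mem_normalizer_weaklyClosed (hW : F.WeaklyClosed W) {g : Ω} (hg : g ∈ S) :
    g ∈ Subgroup.normalizer (W : Set Ω) := by
  have h : ∀ g ∈ S, ∀ x ∈ W, g * x * g⁻¹ ∈ W := fun g hg x hx => by
    have hm := hW.2 _ (F.conj_mem hW.1 hg)
    exact hm ▸ ⟨⟨x, hx⟩, rfl⟩
  refine Subgroup.mem_normalizer_iff.2 fun x => ⟨h g hg x, fun hx => ?_⟩
  simpa [mul_assoc] using h g⁻¹ (inv_mem hg) _ hx

theorem isNormal_of_weaklyClosed_series [Finite S] [Fact p.Prime] (hS : IsPGroup p S)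
    (hF : F.IsSaturated p) (hQ : F.StronglyClosed Q) (n : ℕ) (C : Fin (n + 1) → Subgroup Ω)
    (hC0 : C 0 = ⊥) (hCn : C (Fin.last n) = Q) (hmono : Monotone C)
    (hcom : ∀ i : Fin n, ⁅C i.succ, Q⁆ ≤ C i.castSucc)
    (hweak : ∀ i : Fin n, F.WeaklyClosed (C i.castSucc)) : F.IsNormal Q := by
  have hnormQ : ∀ g ∈ S, g ∈ Subgroup.normalizer (Q : Set Ω) := fun g hg =>
    mem_normalizer_stronglyClosed hQ hg
  have hCle : ∀ j, C j ≤ Q := fun j => hCn ▸ hmono (Fin.le_last j)
  have hCnorm : ∀ j, ∀ g ∈ S, g ∈ Subgroup.normalizer (C j : Set Ω) := by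
    intro j g hg
    cases j using Fin.lastCases with
    | last => rw [hCn]; exact hnormQ g hg
    | cast i => exact mem_normalizer_weaklyClosed (hweak i) hg
  suffices hsub : F.IsSubsystemOf (normalizerSystemOf F Q hQ.1) from
    ⟨hQ.1, fun P φ hφ => (hsub P hφ).2.2.2⟩
  refine isSubsystemOf_of_aut hS hF fun P hP habove α hα => ?_
  have hPS := hP.1
  by_cases hQP : Q ≤ P
  · exact isIso_normalizerSystem hQ.1 hnormQ hPS hQP hα
      fun x => aut_mem_stronglyClosed_iff hQ hPS hα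
  obtain ⟨i, hi1, hi2⟩ : ∃ i : Fin n, C i.castSucc ≤ P ∧ ¬ C i.succ ≤ P := by
    by_contra hc
    push Not at hc
    have h : ∀ j, C j ≤ P := fun j => by
      induction j using Fin.induction with
      | zero => simp [hC0]
      | succ i ih => exact hc i ih
    exact hQP (hCn ▸ h _)
  obtain ⟨hPa, hPr⟩ := automized_receptive hS hF hP
  have hlt : P < C i.succ ⊔ P :=
    lt_of_le_of_ne le_sup_right fun h => hi2 (h ▸ le_sup_left)
  have hMS : C i.succ ⊔ P ≤ S := sup_le ((hCle _).trans hQ.1) hPS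
  haveI := finite_of_le hMS
  obtain ⟨m, hm, hmP⟩ := SetLike.exists_of_lt
    (lt_normalizerIn (p := p) (hS.to_le hMS) hlt)
  obtain ⟨c, hc, x, hx, hcx⟩ : ∃ c ∈ C i.succ, ∃ x ∈ P, c * x = m := by
    have hmem : m ∈ ((C i.succ ⊔ P : Subgroup Ω) : Set Ω) := hm.1
    rw [Subgroup.coe_mul_of_right_le_normalizer_left _ _ (fun y hy => hCnorm _ y (hPS hy))] at hmem
    exact hmem
  have hcN : c ∈ normalizerIn S P := by
    refine ⟨hQ.1 (hCle _ hc), ?_⟩
    have e : c = m * x⁻¹ := by rw [← hcx]; group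
    rw [e]
    exact mul_mem hm.2 (Subgroup.inv_mem _ (Subgroup.le_normalizer hx))
  have hcP : c ∉ P := fun h => hmP (hcx ▸ P.mul_mem h hx)
  let D : ℕ → Subgroup P := fun k =>
    if k = 0 then ⊤ else if k = 1 then Q.subgroupOf P
    else (C (⟨(i : ℕ) - (k - 2), by omega⟩ : Fin n).castSucc).subgroupOf P
  have hDC : ∀ k, D (k + 2) = (C (⟨(i : ℕ) - k, by omega⟩ : Fin n).castSucc).subgroupOf P :=
    fun k => by simp [D]
  have hle : ∀ k, C (⟨(i : ℕ) - k, by omega⟩ : Fin n).castSucc ≤ P := fun k =>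
    (hmono (show (⟨(i : ℕ) - k, _⟩ : Fin n).castSucc ≤ i.castSucc from Nat.sub_le _ _)).trans hi1
  have hinv : ∀ β ∈ F.autGroup P, ∀ k, ∀ y ∈ D k, β y ∈ D k := by
    intro β hβ k y hy
    match k with
    | 0 => trivial
    | 1 => exact (aut_mem_stronglyClosed_iff hQ hPS hβ).2 hy
    | k + 2 =>
      rw [hDC] at hy ⊢
      exact aut_mem_weaklyClosed (hweak _) hPS (hle k) hβ hy
  let cm : MulAut P := P.normalizerMonoidHom ⟨c, hcN.2⟩
  have hcm : cm ∈ F.autGroup P :=
    autInducedBy_le_autGroup hPS (mem_autInducedBy_iff.2 ⟨c, hcN.1, hcN.2, fun y => rfl⟩)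
  haveI := finite_of_le hPS
  refine aut_mem_of_normal_pgroup hPa hPr habove (stabChain (F.autGroup P) D ((i : ℕ) + 2) hinv)
    stabChain_normal (stabChain_isPGroup (hS.to_le hPS) rfl ?_) hcN hcP (c := ⟨cm, hcm⟩) ?_
    (fun y => rfl) α hα
  · rw [hDC, eq_bot_iff]
    intro y hy
    rw [Subgroup.mem_subgroupOf, show (⟨(i : ℕ) - (i : ℕ), by omega⟩ : Fin n).castSucc = 0 from
      Fin.ext (Nat.sub_self _), hC0, Subgroup.mem_bot] at hy
    exact Subgroup.mem_bot.2 (Subtype.ext hy)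
  · intro k hk y hy
    have hcQ : c ∈ Q := hCle _ hc
    have e : ((y⁻¹ * cm y : P) : Ω) = ⁅(y : Ω)⁻¹, c⁆ := by
      show (y : Ω)⁻¹ * (c * (y : Ω) * c⁻¹) = _
      rw [commutatorElement_def, inv_inv]
      group
    match k with
    | 0 =>
      show ((y⁻¹ * cm y : P) : Ω) ∈ Q
      have h1 : (y : Ω)⁻¹ * c * (y : Ω) ∈ Q := by
        have := conj_mem_stronglyClosed hQ (inv_mem (hPS y.2)) hcQ
        rwa [inv_inv] at this
      rw [e, commutatorElement_def, inv_inv]
      exact Q.mul_mem h1 (Q.inv_mem hcQ)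
    | 1 =>
      rw [hDC 0, Subgroup.mem_subgroupOf]
      show ((y⁻¹ * cm y : P) : Ω) ∈ _
      rw [e]
      have h1 := Subgroup.commutator_mem_commutator (Q.inv_mem (show (y : Ω) ∈ Q from hy)) hc
      rw [Subgroup.commutator_comm] at h1
      exact hcom i h1
    | k + 2 =>
      rw [hDC] at hy
      rw [show k + 2 + 1 = (k + 1) + 2 from rfl, hDC, Subgroup.mem_subgroupOf]
      show ((y⁻¹ * cm y : P) : Ω) ∈ _
      rw [e]
      by_cases hk0 : (i : ℕ) - k = 0
      · rw [Subgroup.mem_subgroupOf, show (⟨(i : ℕ) - k, by omega⟩ : Fin n).castSucc = 0 from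
          Fin.ext hk0, hC0, Subgroup.mem_bot] at hy
        rw [commutatorElement_def, hy]
        simp
      · let j : Fin n := ⟨(i : ℕ) - (k + 1), by omega⟩
        have hj : (⟨(i : ℕ) - k, by omega⟩ : Fin n).castSucc = j.succ :=
          Fin.ext (show (i : ℕ) - k = (i : ℕ) - (k + 1) + 1 by omega)
        rw [Subgroup.mem_subgroupOf, hj] at hy
        exact hcom j (Subgroup.commutator_mem_commutator (inv_mem hy) hcQ)

theorem map_lowerCentralSeries_eq {G H : Type*} [Group G] [Group H] (f : G →* H) (A : Subgroup G) :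
    ∀ k, (A.lowerCentralSeries k).map f = (A.map f).lowerCentralSeries k := by
  intro k
  induction k with
  | zero => rfl
  | succ k ih =>
    rw [Subgroup.lowerCentralSeries_succ, Subgroup.map_commutator, ih,
      Subgroup.lowerCentralSeries_succ]

theorem lowerCentralSeries_le_self {G : Type*} [Group G] (A : Subgroup G) (k : ℕ) :
    A.lowerCentralSeries k ≤ A := by
  have h := A.lowerCentralSeries_antitone (Nat.zero_le k)
  simpa using h

theorem exists_weaklyClosed_series [Finite S] [Fact p.Prime] (hS : IsPGroup p S)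
    (hQ : F.IsNormal Q) : F.StronglyClosed Q ∧ ∃ (n : ℕ) (C : Fin (n + 1) → Subgroup Ω),
      C 0 = ⊥ ∧ C (Fin.last n) = Q ∧ Monotone C ∧ (∀ i : Fin n, ⁅C i.succ, Q⁆ ≤ C i.castSucc) ∧
      ∀ i : Fin n, F.WeaklyClosed (C i.castSucc) := by
  haveI := finite_of_le hQ.1
  have hnil : Group.IsNilpotent Q := (hS.to_le hQ.1).isNilpotent
  obtain ⟨m, hm⟩ := Subgroup.nilpotent_iff_lowerCentralSeries.1 hnil
  have hbot : Q.lowerCentralSeries m = ⊥ := by
    have h := map_lowerCentralSeries_eq Q.subtype ⊤ m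
    rw [hm, Subgroup.map_bot, ← MonoidHom.range_eq_map, Subgroup.range_subtype] at h
    exact h.symm
  refine ⟨⟨hQ.1, fun R hR φ hφ x => ?_⟩, m, fun i => Q.lowerCentralSeries (m - i),
    by simpa using hbot, by simp, fun a b hab => Q.lowerCentralSeries_antitone (by
      have : (a : ℕ) ≤ b := hab
      omega), fun i => ?_, fun i => ⟨(lowerCentralSeries_le_self Q _).trans hQ.1, fun φ hφ => ?_⟩⟩
  · obtain ⟨ψ, -, hψ, hψQ⟩ := hQ.2 R φ hφ
    rw [← hψ x]
    exact hψQ.le ⟨_, hR x.2, rfl⟩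
  · have h : m - (i.castSucc : ℕ) = (m - (i.succ : ℕ)) + 1 := by
      simp only [Fin.val_succ, Fin.val_castSucc]
      omega
    show _ ≤ Q.lowerCentralSeries (m - (i.castSucc : ℕ))
    rw [h, Subgroup.lowerCentralSeries_succ]
  · obtain ⟨ψ, -, hψ, hψQ⟩ := hQ.2 _ φ hφ
    set L := Q.lowerCentralSeries (m - (i.castSucc : ℕ)) with hL
    have hLsub : (Q.subgroupOf (L ⊔ Q)).lowerCentralSeries (m - (i.castSucc : ℕ)) =
        L.subgroupOf (L ⊔ Q) := by
      refine Subgroup.map_injective (L ⊔ Q).subtype_injective ?_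
      rw [map_lowerCentralSeries_eq, Subgroup.map_subgroupOf_eq_of_le le_sup_right,
        Subgroup.map_subgroupOf_eq_of_le le_sup_left]
    have h := map_lowerCentralSeries_eq ψ (Q.subgroupOf (L ⊔ Q)) (m - (i.castSucc : ℕ))
    rw [hLsub, hψQ] at h
    refine le_antisymm ?_ ?_
    · rintro _ ⟨x, rfl⟩
      rw [← hψ x]
      exact h.le ⟨_, x.2, rfl⟩
    · intro y hy
      obtain ⟨z, hz, rfl⟩ : y ∈ (L.subgroupOf (L ⊔ Q)).map ψ := h.ge hy
      exact ⟨⟨z, hz⟩, (hψ ⟨z, hz⟩).symm.trans rfl⟩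

end CfsgLib.FusionSeries
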